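import Groth.Agent.InsepLimLib.Pencil

/-!
# Pencils with prescribed ramification at three points
-/

set_option autoImplicit false

universe u

open Polynomial W4c1limliniiii

noncomputable section

namespace ThreePointLib

variable {k : Type u} [Field k] {d : ℕ} {P : Fin 3 → k} {e : Fin 3 → ℕ}

/-- The linear space of pairs. -/
def L (d : ℕ) (P : Fin 3 → k) (e : Fin 3 → ℕ) : Submodule k (k[X] × k[X]) where
  carrier := {v | v.1.natDegree ≤ d ∧ v.2.natDegree ≤ d ∧ (X - C (P 0)) ^ e 0 ∣ v.1 ∧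
    (X - C (P 1)) ^ e 1 ∣ v.2 ∧ (X - C (P 2)) ^ e 2 ∣ v.1 + v.2}
  zero_mem' := by simp
  add_mem' := by
    rintro v w ⟨a1, a2, a3, a4, a5⟩ ⟨b1, b2, b3, b4, b5⟩
    refine ⟨(natDegree_add_le _ _).trans (max_le a1 b1), (natDegree_add_le _ _).trans (max_le a2 b2),
      dvd_add a3 b3, dvd_add a4 b4, ?_⟩
    rw [show (v + w).1 + (v + w).2 = (v.1 + v.2) + (w.1 + w.2) by rw [Prod.fst_add, Prod.snd_add]; ring]
    exact dvd_add a5 b5
  smul_mem' := by
    rintro c v ⟨a1, a2, a3, a4, a5⟩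
    refine ⟨(natDegree_smul_le _ _).trans a1, (natDegree_smul_le _ _).trans a2, ?_, ?_, ?_⟩
    · rw [Prod.smul_fst, smul_eq_C_mul]; exact a3.mul_left _
    · rw [Prod.smul_snd, smul_eq_C_mul]; exact a4.mul_left _
    · rw [Prod.smul_fst, Prod.smul_snd, ← smul_add, smul_eq_C_mul]; exact a5.mul_left _

theorem eq_zero_of_dvd (hP : Function.Injective P) {i j : Fin 3} (hij : i ≠ j) {d : ℕ} {f : k[X]}
    (hf : f.natDegree ≤ d) (hd : d < e i + e j) (h1 : (X - C (P i)) ^ e i ∣ f) (h2 : (X - C (P j)) ^ e j ∣ f) :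
    f = 0 := by
  by_contra hne
  have h := natDegree_le_of_dvd (((Polynomial.pairwise_coprime_X_sub_C hP hij).pow).mul_dvd h1 h2) hne
  rw [natDegree_mul (pow_ne_zero _ (X_sub_C_ne_zero _)) (pow_ne_zero _ (X_sub_C_ne_zero _)), natDegree_pow,
    natDegree_pow, natDegree_X_sub_C, natDegree_X_sub_C] at h
  omega

theorem lt_add (hsum : (∑ i, e i) + 2 = 2 * d + 3) (he : ∀ i, e i ≤ d) (i j : Fin 3) (hij : i ≠ j) :
    d < e i + e j := by
  have h0 := he 0
  have h1 := he 1
  have h2 := he 2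
  rw [Fin.sum_univ_three] at hsum
  fin_cases i <;> fin_cases j <;> simp at hij ⊢ <;> omega

variable (hP : Function.Injective P) (hsum : (∑ i, e i) + 2 = 2 * d + 3) (he : ∀ i, e i ≤ d)

theorem L_ne_bot (hsum : (∑ i, e i) + 2 = 2 * d + 3) (he : ∀ i, e i ≤ d) : L d P e ≠ ⊥ := by
  rw [Fin.sum_univ_three] at hsum
  have h0 := he 0
  have h1 := he 1
  have h2 := he 2
  let φ : (degreeLT k (d + 1 - e 0) × degreeLT k (d + 1 - e 1)) →ₗ[k] degreeLT k (e 2) :=
    LinearMap.codRestrict (degreeLT k (e 2))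
      ((modByMonicHom ((X - C (P 2)) ^ e 2)).comp
        (((LinearMap.mulLeft k ((X - C (P 0)) ^ e 0)).comp (degreeLT k (d + 1 - e 0)).subtype).coprod
          ((LinearMap.mulLeft k ((X - C (P 1)) ^ e 1)).comp (degreeLT k (d + 1 - e 1)).subtype)))
      (fun v => mem_degreeLT.2 (by
        refine (degree_modByMonic_lt _ ((monic_X_sub_C (P 2)).pow _)).trans_eq ?_
        rw [degree_pow, degree_X_sub_C]; simp))
  haveI : ∀ m, Module.Finite k (degreeLT k m) := fun m => Module.Finite.equiv (degreeLTEquiv k m).symm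
  have hlt : Module.finrank k (degreeLT k (e 2)) <
      Module.finrank k (degreeLT k (d + 1 - e 0) × degreeLT k (d + 1 - e 1)) := by
    rw [Module.finrank_prod, (degreeLTEquiv k _).finrank_eq, (degreeLTEquiv k _).finrank_eq,
      (degreeLTEquiv k _).finrank_eq, Module.finrank_fin_fun, Module.finrank_fin_fun, Module.finrank_fin_fun]
    omega
  have hk := LinearMap.ker_ne_bot_of_finrank_lt (f := φ) hlt
  obtain ⟨⟨f, g⟩, hfg, hne⟩ := (Submodule.ne_bot_iff _).1 hk
  have hdiv : (X - C (P 2)) ^ e 2 ∣ (X - C (P 0)) ^ e 0 * (f : k[X]) + (X - C (P 1)) ^ e 1 * (g : k[X]) :=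
    (modByMonic_eq_zero_iff_dvd ((monic_X_sub_C (P 2)).pow _)).1 (congrArg Subtype.val (LinearMap.mem_ker.1 hfg))
  have hdeg : ∀ (i : Fin 3) (m : degreeLT k (d + 1 - e i)), ((X - C (P i)) ^ e i * (m : k[X])).natDegree ≤ d := by
    intro i m
    refine natDegree_mul_le.trans ?_
    have := he i
    rw [natDegree_pow, natDegree_X_sub_C, mul_one]
    by_cases hm : (m : k[X]) = 0
    · rw [hm, natDegree_zero]; omega
    have := mem_degreeLT.1 m.2
    rw [degree_eq_natDegree hm] at this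
    norm_cast at this
    omega
  refine (Submodule.ne_bot_iff _).2 ⟨((X - C (P 0)) ^ e 0 * (f : k[X]), (X - C (P 1)) ^ e 1 * (g : k[X])),
    ⟨hdeg 0 f, hdeg 1 g, dvd_mul_right _ _, dvd_mul_right _ _, hdiv⟩, fun h => hne ?_⟩
  rw [Prod.mk_eq_zero, mul_eq_zero, mul_eq_zero] at h
  exact Prod.ext (Subtype.ext (h.1.resolve_left (pow_ne_zero _ (X_sub_C_ne_zero _))))
    (Subtype.ext (h.2.resolve_left (pow_ne_zero _ (X_sub_C_ne_zero _))))

include hP hsum he in
theorem indep {v : k[X] × k[X]} (hv : v ∈ L d P e) (hv0 : v ≠ 0) (x y : k)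
    (h : C x * v.1 + C y * v.2 = 0) : x = 0 ∧ y = 0 := by
  obtain ⟨a1, a2, a3, a4, a5⟩ := hv
  have hF : v.1 ≠ 0 := fun h0 => hv0 (Prod.ext h0
    (eq_zero_of_dvd hP (show (1 : Fin 3) ≠ 2 by decide) a2 (lt_add hsum he 1 2 (by decide)) a4 (by simpa [h0] using a5)))
  have hG : v.2 ≠ 0 := fun h0 => hv0 (Prod.ext
    (eq_zero_of_dvd hP (show (0 : Fin 3) ≠ 2 by decide) a1 (lt_add hsum he 0 2 (by decide)) a3 (by simpa [h0] using a5)) h0)
  by_cases hx : x = 0
  · refine ⟨hx, ?_⟩
    rw [hx, map_zero, zero_mul, zero_add, mul_eq_zero, C_eq_zero] at h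
    exact h.resolve_right hG
  · exfalso
    refine hF (eq_zero_of_dvd hP (show (0 : Fin 3) ≠ 1 by decide) a1 (lt_add hsum he 0 1 (by decide)) a3 ?_)
    have h1 : v.1 = C x⁻¹ * (-(C y * v.2)) := by
      rw [show -(C y * v.2) = C x * v.1 by linear_combination -h, ← mul_assoc, ← map_mul, inv_mul_cancel₀ hx,
        map_one, one_mul]
    rw [h1]
    exact ((a4.mul_left _).neg_right).mul_left _

include hP hsum he in
theorem mult {v : k[X] × k[X]} (hv : v ∈ L d P e) (hv0 : v ≠ 0) (i : Fin 3) :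
    ∃ s ∈ Submodule.span k {v.1, v.2}, s ≠ 0 ∧ e i ≤ s.rootMultiplicity (P i) := by
  have hi := indep hP hsum he hv hv0
  obtain ⟨a1, a2, a3, a4, a5⟩ := hv
  have hF : v.1 ≠ 0 := fun h0 => one_ne_zero (hi 1 0 (by simp [h0])).1
  have hG : v.2 ≠ 0 := fun h0 => one_ne_zero (hi 0 1 (by simp [h0])).2
  have hS : v.1 + v.2 ≠ 0 := fun h0 => one_ne_zero (hi 1 1 (by simpa using h0)).1
  fin_cases i
  · exact ⟨v.1, Submodule.subset_span (Set.mem_insert _ _), hF, (le_rootMultiplicity_iff hF).2 a3⟩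
  · exact ⟨v.2, Submodule.subset_span (Set.mem_insert_of_mem _ rfl), hG, (le_rootMultiplicity_iff hG).2 a4⟩
  · exact ⟨v.1 + v.2, add_mem (Submodule.subset_span (Set.mem_insert _ _))
      (Submodule.subset_span (Set.mem_insert_of_mem _ rfl)), hS, (le_rootMultiplicity_iff hS).2 a5⟩

include hP hsum he in
theorem finrank_span {v : k[X] × k[X]} (hv : v ∈ L d P e) (hv0 : v ≠ 0) :
    Module.finrank k (Submodule.span k {v.1, v.2}) = 2 := by
  have hli : LinearIndependent k ![v.1, v.2] := LinearIndependent.pair_iff.2 fun x y h => by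
    rw [smul_eq_C_mul, smul_eq_C_mul] at h
    exact indep hP hsum he hv hv0 x y h
  have := finrank_span_eq_card hli
  rwa [Matrix.range_cons, Matrix.range_cons, Matrix.range_empty, Set.union_empty, Set.singleton_union,
    Fintype.card_fin] at this

theorem span_le {v : k[X] × k[X]} (hv : v ∈ L d P e) :
    Submodule.span k {v.1, v.2} ≤ degreeLE k d := by
  rw [Submodule.span_le]
  rintro x (rfl | rfl)
  · exact mem_degreeLE.2 (degree_le_of_natDegree_le hv.1)
  · exact mem_degreeLE.2 (degree_le_of_natDegree_le hv.2.1)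

include hP hsum he in
theorem exists_mem {V : Submodule k k[X]} (hle : ∀ s ∈ V, s.natDegree ≤ d) (hrank : Module.finrank k V = 2)
    (hram : ∀ i, ∃ s ∈ V, s ≠ 0 ∧ e i ≤ s.rootMultiplicity (P i)) :
    ∃ v ∈ L d P e, v ≠ 0 ∧ Submodule.span k {v.1, v.2} = V := by
  choose s hsV hs0 hse using hram
  have hdvd : ∀ i, (X - C (P i)) ^ e i ∣ s i := fun i => (le_rootMultiplicity_iff (hs0 i)).1 (hse i)
  have hpair : ∀ i j : Fin 3, i ≠ j → ∀ x y : k, C x * s i + C y * s j = 0 → x = 0 ∧ y = 0 := by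
    intro i j hij x y h
    by_cases hx : x = 0
    · refine ⟨hx, ?_⟩
      rw [hx, map_zero, zero_mul, zero_add, mul_eq_zero, C_eq_zero] at h
      exact h.resolve_right (hs0 j)
    · exfalso
      refine hs0 i (eq_zero_of_dvd hP hij (hle _ (hsV i)) (lt_add hsum he i j hij) (hdvd i) ?_)
      have h1 : s i = C x⁻¹ * (-(C y * s j)) := by
        rw [show -(C y * s j) = C x * s i by linear_combination -h, ← mul_assoc, ← map_mul, inv_mul_cancel₀ hx,
          map_one, one_mul]
      rw [h1]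
      exact (((hdvd j).mul_left _).neg_right).mul_left _
  haveI : FiniteDimensional k V := FiniteDimensional.of_finrank_pos (by omega)
  have hspan : Submodule.span k {s 0, s 1} = V := by
    refine Submodule.eq_of_le_of_finrank_le (Submodule.span_le.2 ?_) ?_
    · rintro x (rfl | rfl) <;> exact hsV _
    · have hli : LinearIndependent k ![s 0, s 1] := LinearIndependent.pair_iff.2 fun x y h => by
        rw [smul_eq_C_mul, smul_eq_C_mul] at h
        exact hpair 0 1 (by decide) x y h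
      have := finrank_span_eq_card hli
      rw [Matrix.range_cons, Matrix.range_cons, Matrix.range_empty, Set.union_empty, Set.singleton_union,
        Fintype.card_fin] at this
      omega
  have h2 : s 2 ∈ Submodule.span k {s 0, s 1} := hspan.symm ▸ hsV 2
  obtain ⟨x, y, hxy⟩ := Submodule.mem_span_pair.1 h2
  rw [smul_eq_C_mul, smul_eq_C_mul] at hxy
  have hx : x ≠ 0 := fun hx => one_ne_zero (hpair 2 1 (by decide) 1 (-y) (by
    rw [← hxy, hx, map_one, map_zero, map_neg]; ring)).1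
  have hy : y ≠ 0 := fun hy => one_ne_zero (hpair 2 0 (by decide) 1 (-x) (by
    rw [← hxy, hy, map_one, map_zero, map_neg]; ring)).1
  refine ⟨(C x * s 0, C y * s 1), ⟨(natDegree_C_mul_le _ _).trans (hle _ (hsV 0)),
    (natDegree_C_mul_le _ _).trans (hle _ (hsV 1)), (hdvd 0).mul_left _, (hdvd 1).mul_left _, hxy.symm ▸ hdvd 2⟩,
    fun h => ?_, ?_⟩
  · exact mul_ne_zero (C_ne_zero.2 hx) (hs0 0) (Prod.ext_iff.1 h).1
  · rw [← hspan]
    show Submodule.span k {C x * s 0, C y * s 1} = Submodule.span k {s 0, s 1}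
    have ex : C x * s 0 = x • s 0 := (smul_eq_C_mul x).symm
    have ey : C y * s 1 = y • s 1 := (smul_eq_C_mul y).symm
    rw [ex, ey, Submodule.span_insert, Submodule.span_insert,
      Submodule.span_singleton_smul_eq (Ne.isUnit hx), Submodule.span_singleton_smul_eq (Ne.isUnit hy)]

include hP hsum in
/-- Any two solutions define the same rational function. -/
theorem cross {v w : k[X] × k[X]} (hv : v ∈ L d P e) (hw : w ∈ L d P e) : v.1 * w.2 = w.1 * v.2 := by
  rw [← sub_eq_zero]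
  by_contra hne
  obtain ⟨a1, a2, a3, a4, a5⟩ := hv
  obtain ⟨b1, b2, b3, b4, b5⟩ := hw
  have hdvd : ∀ i, (X - C (P i)) ^ e i ∣ v.1 * w.2 - w.1 * v.2 := by
    intro i
    fin_cases i
    · exact dvd_sub (a3.mul_right _) (b3.mul_right _)
    · exact dvd_sub (b4.mul_left _) (a4.mul_left _)
    · show (X - C (P 2)) ^ e 2 ∣ _
      rw [show v.1 * w.2 - w.1 * v.2 = v.1 * (w.1 + w.2) - w.1 * (v.1 + v.2) by ring]
      exact dvd_sub (b5.mul_left _) (a5.mul_left _)
  have h := natDegree_le_of_dvd (Fintype.prod_dvd_of_coprime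
    (fun i j hij => (Polynomial.pairwise_coprime_X_sub_C hP hij).pow) hdvd) hne
  rw [natDegree_prod _ _ fun i _ => pow_ne_zero _ (X_sub_C_ne_zero _)] at h
  simp only [natDegree_pow, natDegree_X_sub_C, mul_one] at h
  have h2 : (v.1 * w.2 - w.1 * v.2).natDegree ≤ 2 * d :=
    (natDegree_sub_le _ _).trans (max_le (natDegree_mul_le.trans (by omega)) (natDegree_mul_le.trans (by omega)))
  omega

include hP hsum he in
theorem eq_smul_of_span_eq {v w : k[X] × k[X]} (hv : v ∈ L d P e) (hw : w ∈ L d P e) (hv0 : v ≠ 0)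
    (h : Submodule.span k {v.1, v.2} = Submodule.span k {w.1, w.2}) : ∃ c : k, w = c • v := by
  have hi := indep hP hsum he hv hv0
  have hvm := hv
  obtain ⟨a1, a2, a3, a4, a5⟩ := hvm
  obtain ⟨b1, b2, b3, b4, b5⟩ := hw
  have m1 : w.1 ∈ Submodule.span k {v.1, v.2} := h ▸ Submodule.subset_span (Set.mem_insert _ _)
  have m2 : w.2 ∈ Submodule.span k {v.1, v.2} := h ▸ Submodule.subset_span (Set.mem_insert_of_mem _ rfl)
  obtain ⟨x, y, hxy⟩ := Submodule.mem_span_pair.1 m1
  obtain ⟨z, t, hzt⟩ := Submodule.mem_span_pair.1 m2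
  rw [smul_eq_C_mul, smul_eq_C_mul] at hxy hzt
  have hy : y = 0 := (hi 0 y (by
    rw [map_zero, zero_mul, zero_add]
    exact eq_zero_of_dvd hP (show (0 : Fin 3) ≠ 1 by decide) ((natDegree_C_mul_le _ _).trans a2)
      (lt_add hsum he 0 1 (by decide))
      (by rw [show C y * v.2 = w.1 - C x * v.1 by rw [← hxy]; ring]; exact dvd_sub b3 (a3.mul_left _))
      (a4.mul_left _))).2
  have hz : z = 0 := (hi z 0 (by
    rw [map_zero, zero_mul, add_zero]
    exact eq_zero_of_dvd hP (show (0 : Fin 3) ≠ 1 by decide) ((natDegree_C_mul_le _ _).trans a1)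
      (lt_add hsum he 0 1 (by decide)) (a3.mul_left _)
      (by rw [show C z * v.1 = w.2 - C t * v.2 by rw [← hzt]; ring]; exact dvd_sub b4 (a4.mul_left _)))).1
  have hxt : x - t = 0 := (hi (x - t) 0 (by
    rw [map_zero, zero_mul, add_zero]
    exact eq_zero_of_dvd hP (show (0 : Fin 3) ≠ 2 by decide) ((natDegree_C_mul_le _ _).trans a1)
      (lt_add hsum he 0 2 (by decide)) (a3.mul_left _)
      (by
        rw [show C (x - t) * v.1 = (w.1 + w.2) - C t * (v.1 + v.2) by
          rw [← hxy, ← hzt, hy, hz, map_sub, map_zero]; ring]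
        exact dvd_sub b5 (a5.mul_left _)))).1
  refine ⟨x, Prod.ext ?_ ?_⟩
  · rw [← hxy, hy, Prod.smul_fst, smul_eq_C_mul, map_zero, zero_mul, add_zero]
  · rw [← hzt, hz, ← sub_eq_zero.1 hxt, Prod.smul_snd, smul_eq_C_mul, map_zero, zero_mul, zero_add]

include hP hsum he in
/-- A separable solution is a map with exactly the prescribed ramification. -/
theorem mem_ramMaps (he2 : ∀ i, 2 ≤ e i) {V : Submodule k k[X]} (hle : V ≤ degreeLE k d)
    (hrank : Module.finrank k V = 2) (hram : ∀ i, ∃ s ∈ V, s ≠ 0 ∧ e i ≤ s.rootMultiplicity (P i))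
    (hsep : IsSeparable V) : V ∈ ramMaps d P e := by
  classical
  have hdeg : ∀ s ∈ V, s.natDegree ≤ d := fun s hs => natDegree_le_iff_degree_le.2 (mem_degreeLE.1 (hle hs))
  obtain ⟨v, hv, hv0, rfl⟩ := exists_mem hP hsum he (V := V) hdeg hrank hram
  set R : k[X] := ∏ i, (X - C (P i)) ^ (e i - 1) with hR
  have hmem : ∀ s ∈ Submodule.span k {v.1, v.2}, ∃ x y : k, C x * v.1 + C y * v.2 = s := fun s hs => by
    rw [Submodule.mem_span_pair] at hs
    obtain ⟨x, y, h⟩ := hs
    exact ⟨x, y, by rw [← smul_eq_C_mul, ← smul_eq_C_mul]; exact h⟩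
  have hW0 : wronskian v.1 v.2 ≠ 0 := fun h0 => by
    obtain ⟨a, ha, b, hb, hab⟩ := hsep
    obtain ⟨x, y, rfl⟩ := hmem a ha
    obtain ⟨z, w, rfl⟩ := hmem b hb
    exact hab (by rw [InsepLimLib.wronskian_comb, h0, mul_zero])
  obtain ⟨q, hq⟩ : R ∣ wronskian v.1 v.2 := by
    refine Fintype.prod_dvd_of_coprime (fun i j hij => (Polynomial.pairwise_coprime_X_sub_C hP hij).pow) fun i => ?_
    obtain ⟨a1, a2, a3, a4, a5⟩ := hv
    fin_cases i
    · exact RamMapLib.pow_pred_dvd_wronskian_left a3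
    · show (X - C (P 1)) ^ (e 1 - 1) ∣ _
      rw [← wronskian_neg_eq]
      exact (RamMapLib.pow_pred_dvd_wronskian_left a4).neg_right
    · show (X - C (P 2)) ^ (e 2 - 1) ∣ _
      rw [show wronskian v.1 v.2 = wronskian (v.1 + v.2) v.2 by
        rw [wronskian_add_left, wronskian_self_eq_zero, add_zero]]
      exact RamMapLib.pow_pred_dvd_wronskian_left a5
  have hq0 : q ≠ 0 := fun h => hW0 (by rw [hq, h, mul_zero])
  have hR0 : R ≠ 0 := InsepLimLib.ram_ne_zero
  have hRd : R.natDegree = 2 * d - 2 :=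
    InsepLimLib.natDegree_ram (fun i => (he2 i).trans' one_le_two) hsum
  have hqd : q.natDegree = 0 := by
    have h1 := RamMapLib.natDegree_wronskian_le hv.1 hv.2.1
    rw [hq, natDegree_mul hR0 hq0, hRd] at h1
    omega
  have horder : ∀ (b : k) (m : ℕ), (X - C b) ^ m ∣ wronskian v.1 v.2 → (X - C b) ^ m ∣ R := fun b m h => by
    rw [hq, eq_C_of_natDegree_eq_zero hqd] at h
    exact (IsUnit.dvd_mul_right (isUnit_C.2 (Ne.isUnit fun h0 => hq0 (by
      rw [eq_C_of_natDegree_eq_zero hqd, h0, map_zero])))).1 h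
  refine ⟨⟨hle, hrank, ?_, fun b => ?_⟩, hsep, fun i => ⟨hram i, fun s hs hs0 => ?_⟩⟩
  · by_contra hcon
    have h1 : ∀ s ∈ Submodule.span k {v.1, v.2}, s.natDegree ≤ d - 1 := fun s hs => by
      have := hdeg s hs
      have : s.natDegree ≠ d := fun h => hcon ⟨s, hs, h⟩
      omega
    have h2 := RamMapLib.natDegree_wronskian_le (h1 _ (Submodule.subset_span (Set.mem_insert _ _)))
      (h1 _ (Submodule.subset_span (Set.mem_insert_of_mem _ rfl)))
    rw [hq, natDegree_mul hR0 hq0, hRd, hqd] at h2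
    have := he 0
    have := he2 0
    omega
  · by_contra hcon
    simp only [not_exists, not_and, not_not] at hcon
    obtain ⟨a, R1, hR1, hR1', ha⟩ := InsepLimLib.exists_order (e := e) hP b
    rcases ha with ⟨i, hi, rfl⟩ | rfl
    · obtain ⟨s, hs, hs0, hse⟩ := hram i
      obtain ⟨x, y, hxy⟩ := hmem s hs
      obtain ⟨z, w, hdet⟩ : ∃ z w : k, x * w - y * z ≠ 0 := by
        by_cases hx : x = 0
        · refine ⟨1, 0, ?_⟩
          simp only [hx, zero_mul, mul_one, zero_sub, neg_ne_zero]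
          exact fun hy => hs0 (by rw [← hxy, hx, hy]; simp)
        · exact ⟨0, 1, by simpa using hx⟩
      obtain ⟨r1, hr1⟩ : X - C b ∣ C z * v.1 + C w * v.2 := dvd_iff_isRoot.2 (hcon _ (by
        rw [← smul_eq_C_mul, ← smul_eq_C_mul]
        exact Submodule.mem_span_pair.2 ⟨z, w, rfl⟩))
      obtain ⟨s1, hs1⟩ := (le_rootMultiplicity_iff hs0).1 hse
      rw [← hi] at hs1
      have hkey : (X - C b) ^ e i ∣ C (x * w - y * z) * wronskian v.1 v.2 := by
        rw [← InsepLimLib.wronskian_comb, hxy, hr1, wronskian]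
        have he' := InsepLimLib.euler b (e i) s1
        rw [← hs1] at he'
        refine ⟨s1 * derivative ((X - C b) * r1) - ((e i : k[X]) * s1 + (X - C b) * derivative s1) * r1, ?_⟩
        linear_combination derivative ((X - C b) * r1) * hs1 - r1 * he'
      have h2 := horder b (e i) ((IsUnit.dvd_mul_left (isUnit_C.2 (Ne.isUnit hdet))).1 hkey)
      rw [hR, hR1, show e i = e i - 1 + 1 by have := he2 i; omega, pow_succ, Nat.add_sub_cancel] at h2
      exact hR1' (dvd_iff_isRoot.1 ((mul_dvd_mul_iff_left (pow_ne_zero _ (X_sub_C_ne_zero b))).1 h2))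
    · have h2 := horder b 1 (by
        rw [pow_one, wronskian]
        exact dvd_sub ((dvd_iff_isRoot.2 (hcon _ (Submodule.subset_span (Set.mem_insert _ _)))).mul_right _)
          ((dvd_iff_isRoot.2 (hcon _ (Submodule.subset_span (Set.mem_insert_of_mem _ rfl)))).mul_left _))
      rw [hR, hR1, pow_zero, one_mul, pow_one] at h2
      exact hR1' (dvd_iff_isRoot.1 h2)
  · obtain ⟨x, y, rfl⟩ := hmem s hs
    obtain ⟨z, w, hdet⟩ : ∃ z w : k, x * w - y * z ≠ 0 := by
      by_cases hx : x = 0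
      · refine ⟨1, 0, ?_⟩
        simp only [hx, zero_mul, mul_one, zero_sub, neg_ne_zero]
        exact fun hy => hs0 (by simp [hx, hy])
      · exact ⟨0, 1, by simpa using hx⟩
    by_contra hlt'
    rw [not_le] at hlt'
    set o := (C x * v.1 + C y * v.2).rootMultiplicity (P i)
    have h1 : (X - C (P i)) ^ (o - 1) ∣ C (x * w - y * z) * wronskian v.1 v.2 := by
      rw [← InsepLimLib.wronskian_comb]
      exact RamMapLib.pow_pred_dvd_wronskian_left ((le_rootMultiplicity_iff hs0).1 le_rfl)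
    have h2 := horder _ _ ((IsUnit.dvd_mul_left (isUnit_C.2 (Ne.isUnit hdet))).1 h1)
    obtain ⟨a, R1, hR1, hR1', ha⟩ := InsepLimLib.exists_order (e := e) hP (P i)
    have hale : a ≤ e i - 1 := by
      rcases ha with ⟨j, hj, hj'⟩ | h0
      · rw [hj', hP hj]
      · omega
    have h3 : (X - C (P i)) ^ (a + 1) ∣ R := (pow_dvd_pow _ (by have := he2 i; omega)).trans h2
    rw [hR, hR1, pow_succ] at h3
    exact hR1' (dvd_iff_isRoot.1 ((mul_dvd_mul_iff_left (pow_ne_zero _ (X_sub_C_ne_zero (P i)))).1 h3))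

include hP hsum he in
/-- A map with this ramification determines all solutions. -/
theorem eq_of_mem_ramMaps {V W : Submodule k k[X]} (hV : V ∈ ramMaps d P e) (hle : W ≤ degreeLE k d)
    (hrank : Module.finrank k W = 2) (hram : ∀ i, ∃ s ∈ W, s ≠ 0 ∧ e i ≤ s.rootMultiplicity (P i)) [IsAlgClosed k] :
    W = V := by
  obtain ⟨⟨hle', hrank', ⟨s₁, hs₁, hs₁d⟩, hbpf⟩, -, hram'⟩ := hV
  have hdeg : ∀ (U : Submodule k k[X]), U ≤ degreeLE k d → ∀ s ∈ U, s.natDegree ≤ d := fun U hU s hs =>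
    natDegree_le_iff_degree_le.2 (mem_degreeLE.1 (hU hs))
  obtain ⟨v, hv, hv0, rfl⟩ := exists_mem hP hsum he (V := V) (hdeg _ hle') hrank' fun i => (hram' i).1
  obtain ⟨w, hw, hw0, rfl⟩ := exists_mem hP hsum he (V := W) (hdeg _ hle) hrank hram
  have hc := cross hP hsum hv hw
  have hcop : IsCoprime v.1 v.2 := (Polynomial.isCoprime_iff_aeval_ne_zero_of_isAlgClosed k k v.1 v.2).2 fun b => by
    by_contra hcon
    simp only [not_or, not_not, Polynomial.aeval_def, Algebra.algebraMap_self, Polynomial.eval₂_id] at hcon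
    obtain ⟨s, hs, hsb⟩ := hbpf b
    obtain ⟨x, y, rfl⟩ := Submodule.mem_span_pair.1 hs
    exact hsb (by simp [hcon.1, hcon.2])
  have hi := indep hP hsum he hv hv0
  have hF : v.1 ≠ 0 := fun h0 => one_ne_zero (hi 1 0 (by simp [h0])).1
  obtain ⟨q, hq1⟩ : v.1 ∣ w.1 := hcop.dvd_of_dvd_mul_right ⟨w.2, hc.symm⟩
  have hq2 : w.2 = q * v.2 := mul_left_cancel₀ hF (by rw [hc, hq1]; ring)
  have hqd : q.natDegree = 0 := by
    by_contra hq0
    have hqne : q ≠ 0 := fun h => hq0 (by simp [h])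
    obtain ⟨x, y, hxy⟩ := Submodule.mem_span_pair.1 hs₁
    have hne : s₁ ≠ 0 := fun h => by rw [h, natDegree_zero] at hs₁d; have := he 0; have := he 1; have := he 2; rw [Fin.sum_univ_three] at hsum; omega
    have h1 : (q * s₁).natDegree ≤ d := by
      rw [← hxy, show q * (x • v.1 + y • v.2) = x • w.1 + y • w.2 by
        rw [hq1, hq2]; simp only [smul_eq_C_mul]; ring]
      exact (natDegree_add_le _ _).trans (max_le ((natDegree_smul_le _ _).trans hw.1)
        ((natDegree_smul_le _ _).trans hw.2.1))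
    have hne' : s₁.natDegree = d := hs₁d
    rw [natDegree_mul hqne hne, hne'] at h1
    omega
  obtain ⟨c, hc'⟩ := natDegree_eq_zero.1 hqd
  have hwv : w = c • v := Prod.ext (by rw [hq1, ← hc', Prod.smul_fst, smul_eq_C_mul, mul_comm])
    (by rw [hq2, ← hc', Prod.smul_snd, smul_eq_C_mul])
  have hc0 : c ≠ 0 := fun h => hw0 (by rw [hwv, h, zero_smul])
  refine le_antisymm (Submodule.span_le.2 ?_) (Submodule.span_le.2 ?_)
  · rintro _ (rfl | rfl)
    · rw [hwv]; exact Submodule.smul_mem _ _ (Submodule.subset_span (Set.mem_insert _ _))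
    · rw [hwv]; exact Submodule.smul_mem _ _ (Submodule.subset_span (Set.mem_insert_of_mem _ rfl))
  · rintro _ (rfl | rfl)
    · rw [show v.1 = c⁻¹ • w.1 by rw [hwv, Prod.smul_fst, inv_smul_smul₀ hc0]]
      exact Submodule.smul_mem _ _ (Submodule.subset_span (Set.mem_insert _ _))
    · rw [show v.2 = c⁻¹ • w.2 by rw [hwv, Prod.smul_snd, inv_smul_smul₀ hc0]]
      exact Submodule.smul_mem _ _ (Submodule.subset_span (Set.mem_insert_of_mem _ rfl))

end ThreePointLib

end

noncomputable section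

namespace ThreePointLib

variable {k : Type u} [Field k] {d : ℕ}

theorem wronskian_ne_zero_of_indep (hchar : ∀ j, 1 ≤ j → j ≤ d → (j : k) ≠ 0) {F G : k[X]} (hF : F.natDegree ≤ d)
    (hG : G.natDegree ≤ d) (hi : ∀ x y : k, C x * F + C y * G = 0 → x = 0 ∧ y = 0) : wronskian F G ≠ 0 := by
  have hF0 : F ≠ 0 := fun h => one_ne_zero (hi 1 0 (by simp [h])).1
  set i := F.natDegree
  set c := G.coeff i / F.coeff i with hc
  have hFi : F.coeff i ≠ 0 := leadingCoeff_ne_zero.2 hF0
  set G' := C (-c) * F + C 1 * G with hG'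
  have hG'0 : G' ≠ 0 := fun h => one_ne_zero (hi _ _ h).2
  have hG'i : G'.coeff i = 0 := by
    rw [hG', coeff_add, coeff_C_mul, coeff_C_mul, hc, neg_mul, div_mul_cancel₀ _ hFi]; ring
  have hj : G'.coeff G'.natDegree ≠ 0 := leadingCoeff_ne_zero.2 hG'0
  have hG'd : G'.natDegree ≤ d := (natDegree_add_le _ _).trans
    (max_le ((natDegree_C_mul_le _ _).trans hF) ((natDegree_C_mul_le _ _).trans hG))
  intro hW
  refine RamMapLib.wronskian_ne_zero hchar (F := C (F.coeff i)⁻¹ * F) (G := C (G'.coeff G'.natDegree)⁻¹ * G')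
    (a := i) (b := G'.natDegree) ((natDegree_C_mul_le _ _).trans hF) ((natDegree_C_mul_le _ _).trans hG'd)
    (by rw [coeff_C_mul, inv_mul_cancel₀ hFi]) (by rw [coeff_C_mul, hG'i, mul_zero])
    (by rw [coeff_C_mul, inv_mul_cancel₀ hj]) ?_
  rw [hG', show C (F.coeff i)⁻¹ * F = C (F.coeff i)⁻¹ * F + C 0 * G by simp, mul_add, ← mul_assoc, ← mul_assoc,
    ← map_mul, ← map_mul, InsepLimLib.wronskian_comb, hW, mul_zero]

end ThreePointLib

end
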